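import Cfsg.Agent.H587.CY.Wit
import Cfsg.Agent.H776.CY.Congr
import Cfsg.Agent.H661.OC.OwnRX
import Cfsg.Agent.S4613

/-!
# S4829: `PSL₂(q)` in its own characteristic `p` odd (helper587)

* `rowA_of_top` : the row from one character of `Aut(S)`.
* `rowA_psl_two` : the row of `PSL₂(F)`; `row_psl2` : in the form of helper690's dispatcher.
-/

set_option autoImplicit false
set_option linter.unusedSectionVars false

namespace Cfsg.Agent.H587.CY

open Cfsg Cfsg.Agent.H770.CY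
open Cfsg.Agent.Characters

universe u

/-- values fixed by the Galois maps fixing the `p`-th roots of unity -/
theorem cyc_of_fix {p : ℕ} (_hp : p.Prime) {G : Type u} [Group G] [Finite G] (hpG : p ∣ Nat.card G) {χ : G → ℂ}
    (hχ : IsCharacter G χ) (h : ∀ τ : ℂ ≃+* ℂ, (∀ z : ℂ, z ^ p = 1 → τ z = z) → ∀ g, τ (χ g) = χ g) : Cyc p χ := by
  intro k hk hkp g
  obtain ⟨σ, hσ⟩ := GaloisBasic.exists_ringEquiv_pow (Nat.card_pos (α := G)).ne' hk
  have h1 : ∀ z : ℂ, z ^ p = 1 → σ z = z := by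
    intro z hz
    have h2 : z ^ Nat.card G = 1 := by
      obtain ⟨c, hc⟩ := hpG
      rw [hc, pow_mul, hz, one_pow]
    rw [hσ z h2]
    have h3 : k % p = 1 % p := hkp
    rw [pow_eq_pow_mod k hz, h3, ← pow_eq_pow_mod 1 hz, pow_one]
  rw [← GaloisBasic.map_apply_card σ hσ hχ g, h σ h1]

/-- **the row from one character of the automorphism group** -/
theorem rowA_of_top {p : ℕ} [Fact p.Prime] {S : Type u} [Group S] [Fintype S] (hpS : p ∣ Nat.card S)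
    (hinj : Function.Injective (MulAut.conj : S →* MulAut S))
    (hC : ∀ a : MulAut S, ¬ p ∣ orderOf a → (∃ Q : Sylow p S, ∀ x ∈ Q, a x = x) → a = 1)
    {Ψ : MulAut S → ℂ} (hΨ : IsCharacter (MulAut S) Ψ)
    (hfix : ∀ τ : ℂ ≃+* ℂ, (∀ z : ℂ, z ^ p = 1 → τ z = z) → ∀ a, τ (Ψ a) = Ψ a)
    (hdeg : ∃ n : ℕ, Ψ 1 = n ∧ ¬ p ∣ n) {θ₁ θ₂ : S → ℂ} (h1 : IsIrrCharacter S θ₁) (h2 : IsIrrCharacter S θ₂)
    (hne : θ₁ ≠ θ₂) (hres : ∀ s, Ψ (MulAut.conj s) = θ₁ s + θ₂ s) (ht1 : θ₁ ≠ fun _ => 1) (ht2 : θ₂ ≠ fun _ => 1)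
    (hf1 : ∀ τ : ℂ ≃+* ℂ, (∀ z : ℂ, z ^ p = 1 → τ z = z) → ∀ s, τ (θ₁ s) = θ₁ s)
    (hf2 : ∀ τ : ℂ ≃+* ℂ, (∀ z : ℂ, z ^ p = 1 → τ z = z) → ∀ s, τ (θ₂ s) = θ₂ s) : RowA p S := by
  have hp : p.Prime := Fact.out
  intro A hA M hM
  have hcA : Nat.card S ∣ Nat.card A := by
    have hι : Function.Injective ((MulAut.conj : S →* MulAut S).codRestrict A hA.1) := fun x y h =>
      hinj (congrArg Subtype.val h)
    exact Subgroup.card_dvd_of_injective _ hι
  refine ⟨fun a => Ψ a, ⟨Clifford.isCharacter_restrict A hΨ, ?_, hdeg, ?_, ?_⟩⟩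
  · exact cyc_of_fix hp (hpS.trans hcA) (Clifford.isCharacter_restrict A hΨ) fun τ hτ a => hfix τ hτ a
  · intro θ
    have e : res hA.1 (fun a : A => Ψ a) = θ₁ + θ₂ := funext fun s => hres s
    rw [H661.OC.mul_eq, e, Core.classInner_add_left, Core.classInner_irr h1 θ.2, Core.classInner_irr h2 θ.2]
    by_cases k1 : θ₁ = (θ : S → ℂ)
    · right
      rw [if_pos k1, if_neg (fun k2 => hne (k1.trans k2.symm)), add_zero, ← k1]
      exact ⟨rfl, ht1, cyc_of_fix hp hpS (Core.isIrr_isCharacter h1) hf1⟩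
    · rw [if_neg k1]
      by_cases k2 : θ₂ = (θ : S → ℂ)
      · right
        rw [if_pos k2, zero_add, ← k2]
        exact ⟨rfl, ht2, cyc_of_fix hp hpS (Core.isIrr_isCharacter h2) hf2⟩
      · left
        rw [if_neg k2, add_zero]
  · intro a ha hQ
    have h3 : (a : MulAut S) = 1 := by
      refine hC a ?_ hQ
      rwa [Subgroup.orderOf_coe]
    have h4 : a = 1 := Subtype.ext h3
    rw [h4, sub_self]
    exact ⟨0, 1, M.zero_mem, fun h => hM.2.1.ne_top (M.eq_top_of_isUnit_mem h isUnit_one), by simp⟩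

/-- **`PSL₂(F)`, own characteristic** -/
theorem rowA_psl_two {p : ℕ} [Fact p.Prime] (hp : p ≠ 2) (F : Type) [Field F] [Fintype F] [CharP F p]
    (h4 : 4 ≤ Fintype.card F) [Fintype (PS F)] [IsSimpleGroup (PS F)] (hna : ¬ IsMulCommutative (PS F))
    (hpS : p ∣ Nat.card (PS F)) : RowA p (PS F) := by
  classical
  obtain ⟨Ψ, h1, h2, h3, θ₁, θ₂, k1, k2, k3, k4, k5, k6, k7, k8⟩ := exists_wit (F := F) p hp
  refine rowA_of_top hpS (H661.OC.conj_injective hna) (fun a ha ⟨Q, hQ⟩ => ?_) h1 h2 h3 k1 k2 k3 k4 k5 k6 k7 k8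
  exact Cfsg.Agent.S4613.result p (Or.inl ⟨F, inferInstance, inferInstance, inferInstance, 2, le_rfl, fun _ => h4,
    ⟨MulEquiv.refl _⟩⟩) a ha Q hQ

/-- **the row in helper690's form** -/
theorem row_psl2 {p : ℕ} (hp : p.Prime) (hp2 : p ≠ 2) : RowForA p (fun X _ => ∃ (F : Type) (_ : Field F)
    (_ : Fintype F) (_ : CharP F p), 4 ≤ Fintype.card F ∧
      Nonempty (X ≃* Matrix.ProjectiveSpecialLinearGroup (Fin 2) F)) := by
  classical
  rintro X _ _ _ hna hd ⟨F, i1, i2, i3, h4, ⟨e⟩⟩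
  have : Fact p.Prime := ⟨hp⟩
  have : Fintype (PS F) := Fintype.ofFinite _
  have : IsSimpleGroup (PS F) := e.symm.isSimpleGroup
  have hna' : ¬ IsMulCommutative (PS F) := by
    intro h
    apply hna
    refine ⟨⟨fun x y => e.injective ?_⟩⟩
    rw [map_mul, map_mul]
    exact h.1.1 _ _
  refine H776.CY.RowA.congr e (rowA_psl_two hp2 F h4 hna' ?_)
  rwa [← Nat.card_congr e.toEquiv]

end Cfsg.Agent.H587.CY
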