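import Cfsg.Agent.H587.CY.WeilIrr
import Cfsg.Agent.Characters.Brauer

/-!
# S4829: the Weil character of `PΣL₂(q)`, `q` odd (helper587)

* `exists_desc` : the character `χ₀` of the subgroup `X₀ = PΣL₂(F)` of `Aut(PSL₂(F))`.
-/

set_option autoImplicit false
set_option linter.unusedSectionVars false

namespace Cfsg.Agent.H587.CY

open Matrix Cfsg.Agent.ONan.SL2Hom Cfsg
open Cfsg.Agent.ClassicalGeometry.AutPSL.Root
open Cfsg.Agent.ClassicalGeometry.AutPSL.Auto
open Cfsg.Agent.ClassicalGeometry.AutPSL.Main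
open Cfsg.Agent.H199.PslAut

universe u

/-- descending a homomorphism to the range of another one -/
theorem exists_range_lift {G H M : Type*} [Group G] [Group H] [Monoid M] (f : G →* H) (g : G →* M)
    (h : ∀ x, f x = 1 → g x = 1) : ∃ k : f.range →* M, ∀ x, k ⟨f x, x, rfl⟩ = g x := by
  have hk : f.ker ≤ g.ker := fun x hx => h x hx
  refine ⟨(QuotientGroup.lift f.ker g hk).comp (QuotientGroup.quotientKerEquivRange f).symm.toMonoidHom,
    fun x => ?_⟩
  have e : (QuotientGroup.quotientKerEquivRange f).symm ⟨f x, x, rfl⟩ = QuotientGroup.mk x := by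
    rw [MulEquiv.symm_apply_eq]
    rfl
  show QuotientGroup.lift f.ker g hk ((QuotientGroup.quotientKerEquivRange f).symm ⟨f x, x, rfl⟩) = g x
  rw [e]
  rfl

variable {F : Type u} [Field F] [Fintype F] [DecidableEq F] {ψ : AddChar F ℂ}

/-- `PSL₂(F)` -/
abbrev PS (F : Type u) [Field F] := Matrix.ProjectiveSpecialLinearGroup (Fin 2) F

/-- the semidirect product -/
abbrev Xt (F : Type u) [Field F] := SpecialLinearGroup (Fin 2) F ⋊[fld] (F ≃+* F)

theorem rho_neg (h2 : ringChar F ≠ 2) (hψ : ψ.IsPrimitive) :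
    rho h2 hψ (nM (-1 : F) neg_one_ne) = Ta (-1 : F) := (rel h2 hψ).hom_nM (-1) neg_one_ne

theorem nM_comm (g : SpecialLinearGroup (Fin 2) F) : g * nM (-1 : F) neg_one_ne = nM (-1 : F) neg_one_ne * g := by
  have h1 : (-1 : F)⁻¹ = -1 := by rw [inv_neg, inv_one]
  apply ext' <;> rw [Cfsg.Agent.ONan.SL2Hom.mul_apply', Cfsg.Agent.ONan.SL2Hom.mul_apply'] <;>
    simp only [nM_00, nM_01, nM_10, nM_11, h1] <;> ring

theorem rho_mem (h2 : ringChar F ≠ 2) (hψ : ψ.IsPrimitive) (g : SpecialLinearGroup (Fin 2) F) :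
    rho h2 hψ g ∈ Cen F := by
  rw [mem_Cen, ← rho_neg h2 hψ, ← map_mul, ← map_mul, nM_comm]

theorem Fe_mem (σ : F ≃+* F) : Fe σ ∈ Cen F := by
  rw [mem_Cen, Fe_Ta σ neg_one_ne, map_neg, map_one]

/-- the representation of the semidirect product -/
noncomputable def rt (h2 : ringChar F ≠ 2) (hψ : ψ.IsPrimitive) (hinv : ∀ (σ : F ≃+* F) x, ψ (σ x) = ψ x) :
    Xt F →* Cen F :=
  SemidirectProduct.lift ((rho h2 hψ).codRestrict (Cen F) (rho_mem h2 hψ)) (FeHom.codRestrict (Cen F) Fe_mem) (by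
    intro σ
    refine MonoidHom.ext fun g => Subtype.ext ?_
    show rho h2 hψ (fld σ g) = Fe σ * rho h2 hψ g * (Fe σ)⁻¹
    rw [eq_mul_inv_iff_mul_eq]
    exact (Fe_rho h2 hψ hinv σ g (fld σ g) fun i j => rfl).symm)

theorem rt_apply (h2 : ringChar F ≠ 2) (hψ : ψ.IsPrimitive) (hinv : ∀ (σ : F ≃+* F) x, ψ (σ x) = ψ x) (x : Xt F) :
    ((rt h2 hψ hinv x : Cen F) : (F → ℂ) ≃ₗ[ℂ] (F → ℂ)) = rho h2 hψ x.left * Fe x.right := rfl

/-- conjugation and field automorphisms -/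
noncomputable def pt (F : Type u) [Field F] : Xt F →* MulAut (PS F) :=
  SemidirectProduct.lift ((MulAut.conj : PS F →* MulAut (PS F)).comp pr) (phi 2 F) (by
    intro σ
    refine MonoidHom.ext fun g => ?_
    show MulAut.conj (pr (fld σ g)) = phi 2 F σ * MulAut.conj (pr g) * (phi 2 F σ)⁻¹
    rw [← phi_pr]
    refine MulEquiv.ext fun x => ?_
    rw [MulAut.mul_apply, MulAut.mul_apply, MulAut.conj_apply, MulAut.conj_apply, map_mul, map_mul, map_inv,
      MulAut.apply_inv_self])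

theorem pt_apply (x : Xt F) : pt F x = MulAut.conj (pr x.left) * phi 2 F x.right := rfl

theorem exists_square_split (x : Xt F) (h : pt F x = 1) : x.right = 1 ∧ (x.left = 1 ∨ x.left = nM (-1 : F) neg_one_ne) := by
  rw [pt_apply, ← Psi_coe] at h
  obtain ⟨⟨v, hv⟩, h1⟩ := Psi_phi_eq (n := 2) le_rfl (τ := 1) (h.trans (map_one (phi 2 F)).symm)
  refine ⟨h1, ?_⟩
  have e : ∀ i j, x.left.1 i j = (scalar (Fin 2) (v : F)) i j := by
    intro i j
    have := congrArg (fun g : GL (Fin 2) F => (g : Matrix (Fin 2) (Fin 2) F) i j) hv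
    exact this
  have e00 : x.left.1 0 0 = v := by rw [e]; simp
  have e01 : x.left.1 0 1 = 0 := by rw [e]; simp
  have e10 : x.left.1 1 0 = 0 := by rw [e]; simp
  have e11 : x.left.1 1 1 = v := by rw [e]; simp
  have hd := det_eq x.left
  rw [e00, e01, e11, zero_mul, sub_zero] at hd
  rcases mul_self_eq_one_iff.1 hd with h0 | h0
  · left
    apply ext'
    · rw [e00, h0]; rfl
    · rw [e01]; rfl
    · rw [e10]; rfl
    · rw [e11, h0]; rfl
  · right
    apply ext'
    · rw [e00, h0]; rfl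
    · rw [e01]; rfl
    · rw [e10]; rfl
    · rw [e11, h0, nM_11, inv_neg, inv_one]

theorem res_one_of_pt (h2 : ringChar F ≠ 2) (hψ : ψ.IsPrimitive) (hinv : ∀ (σ : F ≃+* F) x, ψ (σ x) = ψ x) (x : Xt F)
    (h : pt F x = 1) : resV (rt h2 hψ hinv x) = 1 := by
  obtain ⟨h1, h3⟩ := exists_square_split x h
  have hF : Fe (1 : F ≃+* F) = 1 := FeHom.map_one
  rcases h3 with h3 | h3
  · have e : rt h2 hψ hinv x = 1 := by
      apply Subtype.ext
      rw [rt_apply, h1, h3, map_one, hF]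
      rfl
    rw [e, map_one]
  · have hm : Ta (-1 : F) ∈ Cen F := mem_Cen.2 rfl
    have e : rt h2 hψ hinv x = ⟨Ta (-1 : F), hm⟩ := by
      apply Subtype.ext
      rw [rt_apply, h1, h3, hF, rho_neg, mul_one]
    rw [e, resV_neg]

/-- **the descended representation** -/
theorem exists_desc (h2 : ringChar F ≠ 2) (hψ : ψ.IsPrimitive) (hinv : ∀ (σ : F ≃+* F) x, ψ (σ x) = ψ x) :
    ∃ R : Representation ℂ (pt F).range (Vp F), ∀ x, R ⟨pt F x, x, rfl⟩ = resV (rt h2 hψ hinv x) :=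
  exists_range_lift (pt F) (resV.comp (rt h2 hψ hinv)) (res_one_of_pt h2 hψ hinv)

end Cfsg.Agent.H587.CY
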