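import Cfsg.Agent.H587.CY.Sigma
import Cfsg.Agent.Characters.Clifford

/-!
# S4829: the Weil character of `Aut(PSL₂(q))`, `q` odd (helper587)

* `exists_wit` : a character of `Aut(PSL₂(F))` of degree `q ± 1`, fixed by the Galois maps fixing the `p`-th roots of
  unity, which restricts to `PSL₂(F)` as the sum of two different nontrivial irreducible characters.
-/

set_option autoImplicit false
set_option linter.unusedSectionVars false

namespace Cfsg.Agent.H587.CY

open Matrix Cfsg.Agent.ONan.SL2Hom Cfsg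
open Cfsg.Agent.ClassicalGeometry.AutPSL.Root
open Cfsg.Agent.ClassicalGeometry.AutPSL.Auto
open Cfsg.Agent.ClassicalGeometry.AutPSL.Main
open Cfsg.Agent.H199.PslAut
open Cfsg.Agent.Characters

universe u

section ind

variable {X : Type u} [Group X] [Fintype X]

/-- induction from a subgroup of index two -/
theorem ind_two (H : Subgroup X) {χ : H → ℂ} (hχ : IsClassFunction H χ) {d : X} (hd : d ∉ H)
    (hcov : ∀ x, x ∉ H → d⁻¹ * x ∈ H) {y : X} (hy : y ∈ H) (hy' : d⁻¹ * y * d ∈ H) :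
    indFun H χ y = χ ⟨y, hy⟩ + χ ⟨d⁻¹ * y * d, hy'⟩ := by
  classical
  have hc : ∀ (x : X) (_ : x ∈ H) (z : X) (hz : z ∈ H), extendByZero H χ (x⁻¹ * z * x) = χ ⟨z, hz⟩ := by
    intro x hx z hz
    have hm : x⁻¹ * z * x ∈ H := H.mul_mem (H.mul_mem (H.inv_mem hx) hz) hx
    rw [Core.extendByZero_of_mem H χ hm]
    have h1 := hχ ⟨z, hz⟩ (⟨x, hx⟩ : H)⁻¹
    rw [inv_inv] at h1
    exact h1
  rw [Core.indFun_apply, ← Finset.sum_filter_add_sum_filter_not Finset.univ (fun x : X => x ∈ H)]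
  have e1 : ∑ x ∈ Finset.univ.filter (fun x : X => x ∈ H), extendByZero H χ (x⁻¹ * y * x) = Nat.card H * χ ⟨y, hy⟩ := by
    rw [Finset.sum_congr rfl fun x hx => hc x (Finset.mem_filter.1 hx).2 y hy, Finset.sum_const, nsmul_eq_mul]
    congr 2
    rw [Nat.card_eq_fintype_card, Fintype.card_subtype]
  have e2 : ∑ x ∈ Finset.univ.filter (fun x : X => ¬ x ∈ H), extendByZero H χ (x⁻¹ * y * x) =
      Nat.card H * χ ⟨d⁻¹ * y * d, hy'⟩ := by
    have h1 : ∀ x ∈ Finset.univ.filter (fun x : X => ¬ x ∈ H), extendByZero H χ (x⁻¹ * y * x) = χ ⟨d⁻¹ * y * d, hy'⟩ := by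
      intro x hx
      have h2 := hcov x (Finset.mem_filter.1 hx).2
      have h3 := hc _ h2 _ hy'
      rw [← h3]
      congr 1
      group
    rw [Finset.sum_congr rfl h1, Finset.sum_const, nsmul_eq_mul]
    congr 2
    have h4 : (Finset.univ.filter (fun x : X => ¬ x ∈ H)) = (Finset.univ.filter (fun x : X => x ∈ H)).map
        (Equiv.mulLeft d).toEmbedding := by
      ext x
      simp only [Finset.mem_filter, Finset.mem_univ, true_and, Finset.mem_map, Equiv.coe_toEmbedding, Equiv.coe_mulLeft]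
      constructor
      · intro hx
        exact ⟨d⁻¹ * x, hcov x hx, by group⟩
      · rintro ⟨z, hz, rfl⟩ h5
        apply hd
        have := H.mul_mem h5 (H.inv_mem hz)
        rwa [mul_inv_cancel_right] at this
    rw [h4, Finset.card_map, Nat.card_eq_fintype_card, Fintype.card_subtype]
  rw [e1, e2]
  have h5 : (Nat.card H : ℂ) ≠ 0 := Nat.cast_ne_zero.2 Nat.card_pos.ne'
  field_simp

end ind

variable {F : Type u} [Field F] [Fintype F] [DecidableEq F] {ψ : AddChar F ℂ}

theorem conj_mem (s : PS F) : MulAut.conj s ∈ (pt F).range := by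
  obtain ⟨g, rfl⟩ := pr_surjective s
  refine ⟨SemidirectProduct.inl g, ?_⟩
  rw [pt_apply]
  show MulAut.conj (pr g) * phi 2 F 1 = _
  rw [map_one, mul_one]

/-- `PSL₂(F)` as a subgroup of `PΣL₂(F)` -/
noncomputable def io (F : Type u) [Field F] [Fintype F] [DecidableEq F] : PS F →* (pt F).range :=
  (MulAut.conj : PS F →* MulAut (PS F)).codRestrict _ conj_mem

theorem io_pr (g : SpecialLinearGroup (Fin 2) F) : io F (pr g) = ⟨pt F (SemidirectProduct.inl g), _, rfl⟩ := by
  apply Subtype.ext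
  show MulAut.conj (pr g) = MulAut.conj (pr g) * phi 2 F 1
  rw [map_one, mul_one]

variable (h2 : ringChar F ≠ 2) (hψ : ψ.IsPrimitive) (hinv : ∀ (σ : F ≃+* F) x, ψ (σ x) = ψ x)
  {R : Representation ℂ (pt F).range (Vp F)} (hR : ∀ x, R ⟨pt F x, x, rfl⟩ = resV (rt h2 hψ hinv x))

include hR

theorem R_pr (g : SpecialLinearGroup (Fin 2) F) (f : Vp F) :
    ((R (io F (pr g)) f : Vp F) : F → ℂ) = rho h2 hψ g (f : F → ℂ) := by
  rw [io_pr, hR, resV_apply, rt_apply]
  have hF : Fe (1 : F ≃+* F) = 1 := FeHom.map_one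
  show (rho h2 hψ g * Fe 1 : (F → ℂ) ≃ₗ[ℂ] (F → ℂ)) (f : F → ℂ) = _
  rw [hF, mul_one]

omit hR in
theorem ev_one_mem : ev (1 : F) ∈ Vp F := by
  rw [mem_Vp']
  intro x
  rw [ev_apply, ev_apply]
  have e1 : (-x = 1) ↔ (x = -1) := neg_eq_iff_eq_neg
  have e2 : (-x = -1) ↔ (x = 1) := neg_inj
  simp only [e1, e2]
  have h3 := eta_sq (neg_one_ne (F := F))
  linear_combination (if x = 1 then (1 : ℂ) else 0) * h3

omit hR in
theorem ev_one_ne (h2 : ringChar F ≠ 2) : ev (1 : F) ≠ 0 := by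
  intro h
  have h1 := congrFun h 1
  have h3 : (1 : F) ≠ -1 := by
    intro h4
    have h5 : (2 : F) = 0 := by linear_combination h4
    exact Ring.two_ne_zero h2 h5
  rw [ev_apply, if_pos rfl, if_neg h3, mul_zero, add_zero] at h1
  exact one_ne_zero h1

/-- **the Weil character is irreducible** -/
theorem irr_theta : IsIrrCharacter (PS F) (fun s => R.character (io F s)) := by
  let σ : Representation ℂ (PS F) (Vp F) := MonoidHom.comp R (io F)
  have h0 : (fun s => R.character (io F s)) = Representation.character σ := rfl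
  rw [h0]
  refine Core.isIrrCharacter_of_rep σ ?_
  have hnt : Nontrivial (Subrepresentation σ) := by
    refine ⟨⊥, ⊤, fun h => ?_⟩
    have h1 : (⊥ : Submodule ℂ (Vp F)) = ⊤ := congrArg Subrepresentation.toSubmodule h
    have h3 : (⟨ev (1 : F), ev_one_mem⟩ : Vp F) ∈ (⊥ : Submodule ℂ (Vp F)) := h1 ▸ Submodule.mem_top
    rw [Submodule.mem_bot] at h3
    exact ev_one_ne h2 (congrArg Subtype.val h3)
  refine ⟨fun W => ?_⟩
  by_cases hW : W.toSubmodule = ⊥
  · left
    exact Subrepresentation.toSubmodule_injective hW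
  · right
    apply Subrepresentation.toSubmodule_injective
    show W.toSubmodule = ⊤
    have hinvt : ∀ g : SpecialLinearGroup (Fin 2) F, ∀ f ∈ W.toSubmodule.map (Vp F).subtype,
        rho h2 hψ g f ∈ W.toSubmodule.map (Vp F).subtype := by
      rintro g _ ⟨f, hf, rfl⟩
      refine ⟨σ (pr g) f, W.apply_mem_toSubmodule (pr g) hf, ?_⟩
      exact R_pr h2 hψ hinv hR g f
    have h1 : W.toSubmodule.map (Vp F).subtype = Vp F := by
      refine irr_Vp h2 hψ (Submodule.map_subtype_le _ _) ?_ ?_ ?_ ?_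
      · intro h
        apply hW
        rw [Submodule.eq_bot_iff]
        intro f hf
        have h3 : (f : F → ℂ) ∈ W.toSubmodule.map (Vp F).subtype := ⟨f, hf, rfl⟩
        rw [h, Submodule.mem_bot] at h3
        exact Subtype.ext h3
      · intro t f hf
        have h3 := hinvt (tM t) f hf
        rwa [rho, (rel h2 hψ).hom_tM] at h3
      · intro a ha f hf
        have h3 := hinvt (nM a ha) f hf
        rwa [rho, (rel h2 hψ).hom_nM] at h3
      · intro f hf
        have h3 := hinvt (mM (-1) (rel h2 hψ).c_ne) f hf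
        rwa [rho, (rel h2 hψ).hom_mM] at h3
    rw [Submodule.eq_top_iff']
    intro f
    have h3 : (f : F → ℂ) ∈ W.toSubmodule.map (Vp F).subtype := h1.symm ▸ f.2
    obtain ⟨f', hf', he⟩ := h3
    have h4 : f' = f := Subtype.ext he
    rwa [← h4]

/-- the values -/
theorem char_val (x : Xt F) : R.character ⟨pt F x, x, rfl⟩ =
    (LinearMap.trace ℂ (F → ℂ) ((rt h2 hψ hinv x : Cen F) : (F → ℂ) ≃ₗ[ℂ] (F → ℂ)) +
      LinearMap.trace ℂ (F → ℂ) (((rt h2 hψ hinv x : Cen F) : (F → ℂ) ≃ₗ[ℂ] (F → ℂ)) * Ta (-1) : (F → ℂ) ≃ₗ[ℂ] (F → ℂ))) / 2 := by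
  rw [Representation.character, hR, trace_resV]

/-- the values are fixed by the Galois maps fixing the values of `ψ` -/
theorem char_rat {τ : ℂ ≃+* ℂ} (hτ : ∀ x, τ (ψ x) = ψ x) (y : (pt F).range) : τ (R.character y) = R.character y := by
  obtain ⟨_, x, rfl⟩ := y
  have h1 : Rat τ ((rt h2 hψ hinv x : Cen F) : (F → ℂ) ≃ₗ[ℂ] (F → ℂ)) := by
    rw [rt_apply]
    exact (rat_rho h2 hψ hτ _).mul (rat_Fe τ _)
  rw [char_val h2 hψ hinv hR, map_div₀, map_add, h1.trace, (h1.mul (rat_Ta τ (-1))).trace, map_ofNat]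

/-- the values on the unipotent elements -/
theorem theta_te (t : F) : R.character (io F (pr (tM t))) =
    ((if t = 0 then (Fintype.card F : ℂ) else eta t * gs ψ) + eta (-1 : F)) / 2 := by
  rw [io_pr, char_val h2 hψ hinv hR]
  have h1 : ((rt h2 hψ hinv (SemidirectProduct.inl (tM t)) : Cen F) : (F → ℂ) ≃ₗ[ℂ] (F → ℂ)) = Te ψ t := by
    rw [rt_apply]
    have hF : Fe (1 : F ≃+* F) = 1 := FeHom.map_one
    show (rho h2 hψ (tM t) * Fe 1 : (F → ℂ) ≃ₗ[ℂ] (F → ℂ)) = _
    rw [hF, mul_one, rho, (rel h2 hψ).hom_tM]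
  rw [h1, trace_Te h2 hψ, trace_Te_neg h2]

/-- the degree -/
theorem theta_one : R.character 1 = ((Fintype.card F : ℂ) + eta (-1 : F)) / 2 := by
  have h := theta_te h2 hψ hinv hR 0
  rw [if_pos rfl] at h
  rw [← h]
  congr 1
  have e : (tM (0 : F)) = 1 := by
    apply ext' <;> rfl
  rw [e, map_one, map_one]

end Cfsg.Agent.H587.CY
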