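import Mathlib
import Cfsg.Agent.ONan.SL2Hom

/-!
# S4829: the Weil representation of `SL₂(q)`, `q` odd, on the functions on `F` (helper587)

`T t f x = ψ (t x²) f x`, `N a f x = η(a) f (a x)`, `M f x = (G / q) ∑ y, ψ (2 x y) f y`.

* `gs_sq`, `sum_sq` : the Gauss sum.
* `rel` : the relations of `SL₂(F)`.
* `rho` : the homomorphism `SL₂(F) → GL(F → ℂ)`.
-/

set_option autoImplicit false
set_option linter.unusedSectionVars false

namespace Cfsg.Agent.H587.CY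

open Matrix Cfsg.Agent.ONan.SL2Hom

universe u

variable {F : Type u} [Field F] [Fintype F] [DecidableEq F]

/-- the quadratic character -/
noncomputable def eta (a : F) : ℂ := ((quadraticChar F a : ℤ) : ℂ)

theorem eta_mul (a b : F) : eta (a * b) = eta a * eta b := by
  unfold eta
  rw [map_mul, Int.cast_mul]

theorem eta_one : eta (1 : F) = 1 := by
  unfold eta
  rw [map_one, Int.cast_one]

theorem eta_sq {a : F} (ha : a ≠ 0) : eta a * eta a = 1 := by
  rw [← eta_mul, ← pow_two]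
  unfold eta
  rw [quadraticChar_sq_one' ha, Int.cast_one]

theorem eta_inv {a : F} (ha : a ≠ 0) : eta a⁻¹ = eta a := by
  have h1 : eta a * eta a⁻¹ = 1 := by rw [← eta_mul, mul_inv_cancel₀ ha, eta_one]
  have h2 := eta_sq ha
  have h3 : eta a ≠ 0 := left_ne_zero_of_mul_eq_one h2
  exact mul_left_cancel₀ h3 (h1.trans h2.symm)

theorem eta_ne {a : F} (ha : a ≠ 0) : eta a ≠ 0 := left_ne_zero_of_mul_eq_one (eta_sq ha)

theorem eta_cases {a : F} (ha : a ≠ 0) : eta a = 1 ∨ eta a = -1 :=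
  mul_self_eq_one_iff.1 (eta_sq ha)

variable (ψ : AddChar F ℂ)

/-- the Gauss sum -/
noncomputable def gs : ℂ := gaussSum ((quadraticChar F).ringHomComp (Int.castRingHom ℂ)) ψ

variable {ψ}

theorem gs_eq : gs ψ = ∑ c : F, eta c * ψ c := rfl

theorem gs_sq (h2 : ringChar F ≠ 2) (hψ : ψ.IsPrimitive) : gs ψ ^ 2 = eta (-1 : F) * Fintype.card F := by
  have h0 : (quadraticChar F).ringHomComp (Int.castRingHom ℂ) ≠ 1 := by
    intro h
    obtain ⟨a, ha⟩ := quadraticChar_exists_neg_one' h2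
    have h3 : ((quadraticChar F).ringHomComp (Int.castRingHom ℂ)) a = 1 := by
      rw [h]
      exact MulChar.one_apply_coe a
    rw [MulChar.ringHomComp_apply, ha] at h3
    norm_num at h3
  exact gaussSum_sq h0 ((quadraticChar_isQuadratic F).comp _) hψ

theorem gs_ne (h2 : ringChar F ≠ 2) (hψ : ψ.IsPrimitive) : gs ψ ≠ 0 := by
  intro h
  have h1 := gs_sq h2 hψ
  rw [h, zero_pow two_ne_zero] at h1
  exact mul_ne_zero (eta_ne (neg_ne_zero.2 one_ne_zero)) (Nat.cast_ne_zero.2 Fintype.card_ne_zero) h1.symm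

/-- the quadratic sums -/
theorem sum_sq (h2 : ringChar F ≠ 2) (hψ : ψ.IsPrimitive) {a : F} (ha : a ≠ 0) :
    ∑ x : F, ψ (a * x ^ 2) = eta a * gs ψ := by
  have h1 : ∑ x : F, ψ (a * x ^ 2) = ∑ c : F, (eta c + 1) * ψ (a * c) := by
    rw [← Finset.sum_fiberwise (s := Finset.univ) (g := fun x : F => x ^ 2)]
    refine Finset.sum_congr rfl fun c _ => ?_
    rw [Finset.sum_congr rfl (g := fun _ => ψ (a * c)) fun x hx => by
      rw [(Finset.mem_filter.1 hx).2]]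
    rw [Finset.sum_const, nsmul_eq_mul]
    congr 1
    have h3 := quadraticChar_card_sqrts h2 c
    rw [Set.toFinset_card] at h3
    have h4 : (Finset.univ.filter fun x : F => x ^ 2 = c).card = Fintype.card {x : F | x ^ 2 = c} := by
      rw [Fintype.card_subtype]
      congr 1
    rw [h4]
    unfold eta
    exact_mod_cast h3
  have h5 : ∑ c : F, ψ (a * c) = 0 := by
    have h6 : (AddChar.mulShift ψ a) ≠ 1 := hψ ha
    have h7 := AddChar.sum_eq_zero_of_ne_one h6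
    simpa [AddChar.mulShift_apply] using h7
  have h6 : ∑ c : F, eta c * ψ (a * c) = eta a * gs ψ := by
    rw [gs_eq, Finset.mul_sum, ← Equiv.sum_comp (Equiv.mulLeft₀ a ha) fun c => eta a * (eta c * ψ c)]
    refine Finset.sum_congr rfl fun c _ => ?_
    rw [Equiv.mulLeft₀_apply, eta_mul, ← mul_assoc, ← mul_assoc, eta_sq ha, one_mul]
  rw [h1]
  simp only [add_mul, one_mul]
  rw [Finset.sum_add_distrib, h5, add_zero, h6]

variable (ψ)

/-- multiplication by `ψ (t x²)` -/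
noncomputable def Tl (t : F) : (F → ℂ) →ₗ[ℂ] (F → ℂ) where
  toFun f := fun x => ψ (t * x ^ 2) * f x
  map_add' f g := by
    funext x
    simp only [Pi.add_apply]
    ring
  map_smul' c f := by
    funext x
    simp only [Pi.smul_apply, smul_eq_mul, RingHom.id_apply]
    ring

/-- the torus -/
noncomputable def Nl (a : F) : (F → ℂ) →ₗ[ℂ] (F → ℂ) where
  toFun f := fun x => eta a * f (a * x)
  map_add' f g := by
    funext x
    simp only [Pi.add_apply]
    ring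
  map_smul' c f := by
    funext x
    simp only [Pi.smul_apply, smul_eq_mul, RingHom.id_apply]
    ring

/-- the Fourier transform -/
noncomputable def Ml : (F → ℂ) →ₗ[ℂ] (F → ℂ) where
  toFun f := fun x => gs ψ / Fintype.card F * ∑ y, ψ (2 * x * y) * f y
  map_add' f g := by
    funext x
    simp only [Pi.add_apply]
    rw [← mul_add, ← Finset.sum_add_distrib]
    congr 1
    exact Finset.sum_congr rfl fun y _ => by ring
  map_smul' c f := by
    funext x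
    simp only [Pi.smul_apply, smul_eq_mul, RingHom.id_apply]
    rw [mul_left_comm c, Finset.mul_sum _ _ c]
    congr 1
    exact Finset.sum_congr rfl fun y _ => by ring

variable {ψ}

theorem Tl_apply (t : F) (f : F → ℂ) (x : F) : Tl ψ t f x = ψ (t * x ^ 2) * f x := rfl

theorem Nl_apply (a : F) (f : F → ℂ) (x : F) : Nl a f x = eta a * f (a * x) := rfl

theorem Ml_apply (f : F → ℂ) (x : F) :
    Ml ψ f x = gs ψ / Fintype.card F * ∑ y, ψ (2 * x * y) * f y := rfl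

theorem Tl_add (s t : F) : Tl ψ (s + t) = Tl ψ s ∘ₗ Tl ψ t := by
  refine LinearMap.ext fun f => funext fun x => ?_
  rw [LinearMap.comp_apply, Tl_apply, Tl_apply, Tl_apply, add_mul, AddChar.map_add_eq_mul, mul_assoc]

theorem Tl_zero : Tl ψ 0 = LinearMap.id := by
  refine LinearMap.ext fun f => funext fun x => ?_
  rw [Tl_apply, zero_mul, AddChar.map_zero_eq_one, one_mul, LinearMap.id_apply]

theorem Nl_mul (a b : F) : Nl (a * b) = Nl a ∘ₗ Nl b := by
  refine LinearMap.ext fun f => funext fun x => ?_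
  rw [LinearMap.comp_apply, Nl_apply, Nl_apply, Nl_apply, eta_mul, mul_assoc]
  congr 3
  ring

theorem Nl_one : Nl (1 : F) = LinearMap.id := by
  refine LinearMap.ext fun f => funext fun x => ?_
  rw [Nl_apply, eta_one, one_mul, one_mul, LinearMap.id_apply]

theorem Nl_Tl (a t : F) : Nl a ∘ₗ Tl ψ t = Tl ψ (a ^ 2 * t) ∘ₗ Nl a := by
  refine LinearMap.ext fun f => funext fun x => ?_
  rw [LinearMap.comp_apply, LinearMap.comp_apply, Nl_apply, Tl_apply, Tl_apply, Nl_apply, mul_left_comm]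
  have e : t * (a * x) ^ 2 = a ^ 2 * t * x ^ 2 := by ring
  rw [e]

theorem Ml_Nl {a : F} (ha : a ≠ 0) : Ml ψ ∘ₗ Nl a = Nl a⁻¹ ∘ₗ Ml ψ := by
  refine LinearMap.ext fun f => funext fun x => ?_
  rw [LinearMap.comp_apply, LinearMap.comp_apply, Nl_apply, Ml_apply, Ml_apply, eta_inv ha, mul_left_comm]
  congr 1
  rw [← Equiv.sum_comp (Equiv.mulLeft₀ a⁻¹ (inv_ne_zero ha)), Finset.mul_sum]
  refine Finset.sum_congr rfl fun y _ => ?_
  have e : 2 * x * (a⁻¹ * y) = 2 * (a⁻¹ * x) * y := by ring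
  rw [Equiv.mulLeft₀_apply, Nl_apply, mul_inv_cancel_left₀ ha, mul_left_comm, e]

theorem sum_psi (hψ : ψ.IsPrimitive) (b : F) : ∑ y : F, ψ (b * y) = if b = 0 then (Fintype.card F : ℂ) else 0 := by
  have h := AddChar.sum_mulShift b hψ
  have e : (∑ y : F, ψ (b * y)) = ∑ y : F, ψ (y * b) := Finset.sum_congr rfl fun y _ => by rw [mul_comm]
  rw [e, h]
  split_ifs
  · rfl
  · rw [Nat.cast_zero]

theorem Ml_Ml (h2 : ringChar F ≠ 2) (hψ : ψ.IsPrimitive) : Ml ψ ∘ₗ Ml ψ = Nl (-1) := by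
  have hq : (Fintype.card F : ℂ) ≠ 0 := Nat.cast_ne_zero.2 Fintype.card_ne_zero
  have h20 : (2 : F) ≠ 0 := Ring.two_ne_zero h2
  refine LinearMap.ext fun f => funext fun x => ?_
  rw [LinearMap.comp_apply, Ml_apply, Nl_apply]
  have h1 : ∑ y, ψ (2 * x * y) * Ml ψ f y = gs ψ / Fintype.card F * (Fintype.card F * f (-1 * x)) := by
    have h3 : ∀ y, ψ (2 * x * y) * Ml ψ f y = gs ψ / Fintype.card F * ∑ z, f z * ψ (2 * (x + z) * y) := by
      intro y
      rw [Ml_apply, mul_left_comm, Finset.mul_sum]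
      congr 1
      refine Finset.sum_congr rfl fun z _ => ?_
      rw [← mul_assoc, ← AddChar.map_add_eq_mul, mul_comm]
      congr 2
      ring
    rw [Finset.sum_congr rfl fun y _ => h3 y, ← Finset.mul_sum, Finset.sum_comm]
    congr 1
    rw [Finset.sum_congr rfl fun z _ => (Finset.mul_sum _ _ _).symm]
    rw [Finset.sum_eq_single (-1 * x)]
    · rw [sum_psi hψ, if_pos (by ring), mul_comm]
    · intro z _ hz
      rw [sum_psi hψ, if_neg, mul_zero]
      intro h0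
      apply hz
      have h5 : x + z = 0 := (mul_eq_zero.1 h0).resolve_left h20
      linear_combination h5
    · intro h
      exact absurd (Finset.mem_univ _) h
  rw [h1]
  have h4 := gs_sq h2 hψ
  generalize f (-1 * x) = z
  field_simp
  linear_combination z * h4

theorem complete_sq (h2 : ringChar F ≠ 2) (hψ : ψ.IsPrimitive) {a : F} (ha : a ≠ 0) (b : F) :
    ∑ y : F, ψ (a * y ^ 2 + 2 * b * y) = ψ (-(b ^ 2 / a)) * (eta a * gs ψ) := by
  rw [← sum_sq h2 hψ ha, Finset.mul_sum, ← Equiv.sum_comp (Equiv.subRight (b / a))]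
  refine Finset.sum_congr rfl fun y _ => ?_
  rw [← AddChar.map_add_eq_mul, Equiv.subRight_apply]
  congr 1
  field_simp
  ring

theorem Ml_Tl_Ml (h2 : ringChar F ≠ 2) (hψ : ψ.IsPrimitive) {a : F} (ha : a ≠ 0) :
    Ml ψ ∘ₗ Tl ψ a ∘ₗ Ml ψ = Nl (-1 / a) ∘ₗ Tl ψ (-a) ∘ₗ Ml ψ ∘ₗ Tl ψ (-((-1) ^ 2 / a)) := by
  have hq : (Fintype.card F : ℂ) ≠ 0 := Nat.cast_ne_zero.2 Fintype.card_ne_zero
  refine LinearMap.ext fun f => funext fun x => ?_
  simp only [LinearMap.comp_apply]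
  have hl : Ml ψ (Tl ψ a (Ml ψ f)) x =
      gs ψ / Fintype.card F * (gs ψ / Fintype.card F * ∑ z, f z * (ψ (-((x + z) ^ 2 / a)) * (eta a * gs ψ))) := by
    rw [Ml_apply]
    congr 1
    have h3 : ∀ y, ψ (2 * x * y) * Tl ψ a (Ml ψ f) y =
        gs ψ / Fintype.card F * ∑ z, f z * ψ (a * y ^ 2 + 2 * (x + z) * y) := by
      intro y
      have h4 : ∑ z, f z * ψ (a * y ^ 2 + 2 * (x + z) * y) =
          ψ (2 * x * y) * ψ (a * y ^ 2) * ∑ z, ψ (2 * y * z) * f z := by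
        rw [Finset.mul_sum]
        refine Finset.sum_congr rfl fun z _ => ?_
        have e : a * y ^ 2 + 2 * (x + z) * y = 2 * x * y + (a * y ^ 2 + 2 * y * z) := by ring
        rw [e, AddChar.map_add_eq_mul, AddChar.map_add_eq_mul]
        ring
      rw [h4, Tl_apply, Ml_apply]
      ring
    rw [Finset.sum_congr rfl fun y _ => h3 y, ← Finset.mul_sum, Finset.sum_comm]
    congr 1
    refine Finset.sum_congr rfl fun z _ => ?_
    rw [← Finset.mul_sum, complete_sq h2 hψ ha]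
  rw [hl, Nl_apply, Tl_apply, Ml_apply]
  have h5 : eta (-1 / a) = eta (-1 : F) * eta a := by rw [div_eq_mul_inv, eta_mul, eta_inv ha]
  rw [h5, Finset.mul_sum, Finset.mul_sum, Finset.mul_sum, Finset.mul_sum, Finset.mul_sum]
  refine Finset.sum_congr rfl fun z _ => ?_
  rw [Tl_apply]
  have e1 : ψ (-((x + z) ^ 2 / a)) = ψ (-a * (-1 / a * x) ^ 2) * (ψ (2 * (-1 / a * x) * z) *
      ψ (-((-1) ^ 2 / a) * z ^ 2)) := by
    rw [← AddChar.map_add_eq_mul, ← AddChar.map_add_eq_mul]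
    congr 1
    field_simp
    ring
  rw [e1]
  have h6 := gs_sq h2 hψ
  generalize ψ (-a * (-1 / a * x) ^ 2) = A
  generalize ψ (2 * (-1 / a * x) * z) = B
  generalize ψ (-((-1) ^ 2 / a) * z ^ 2) = C
  generalize eta (-1 : F) = D at h6 ⊢
  field_simp
  linear_combination (f z * gs ψ * eta a * A * B * C) * h6

/-! ### The additive character -/

omit [DecidableEq F] in
/-- a primitive additive character fixed by the field automorphisms, with values `p`-th roots of unity -/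
theorem exists_psi (p : ℕ) [Fact p.Prime] [CharP F p] : ∃ ψ : AddChar F ℂ, ψ.IsPrimitive ∧
    (∀ (σ : F ≃+* F) x, ψ (σ x) = ψ x) ∧ ∀ x, ψ x ^ p = 1 := by
  obtain rfl : p = ringChar F := (ringChar.eq F p).symm
  let _ : Algebra (ZMod (ringChar F)) F := ZMod.algebra F (ringChar F)
  let ψ : AddChar F ℂ := (ZMod.stdAddChar (N := ringChar F)).compAddMonoidHom (Algebra.trace (ZMod (ringChar F)) F).toAddMonoidHom
  have hψ : ∀ x, ψ x = ZMod.stdAddChar (N := ringChar F) (Algebra.trace (ZMod (ringChar F)) F x) := fun x => rfl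
  refine ⟨ψ, ?_, ?_, ?_⟩
  · intro a ha h
    have h1 : ∀ x, Algebra.trace (ZMod (ringChar F)) F (a * x) = 0 := by
      intro x
      have h2 := DFunLike.congr_fun h x
      rw [AddChar.mulShift_apply, AddChar.one_apply, hψ] at h2
      rw [← ZMod.stdAddChar (N := ringChar F) |>.map_zero_eq_one] at h2
      exact ZMod.injective_stdAddChar h2
    obtain ⟨y, hy⟩ := FiniteField.trace_to_zmod_nondegenerate F ha
    exact hy (h1 y)
  · intro σ x
    rw [hψ, hψ]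
    congr 1
    have h1 : ∀ c : ZMod (ringChar F), σ (algebraMap (ZMod (ringChar F)) F c) = algebraMap (ZMod (ringChar F)) F c := by
      intro c
      obtain ⟨n, rfl⟩ := ZMod.intCast_surjective c
      rw [map_intCast, map_intCast]
    exact Algebra.trace_eq_of_algEquiv (AlgEquiv.ofRingEquiv (f := σ) h1) x
  · intro x
    rw [← AddChar.map_nsmul_eq_pow, nsmul_eq_mul, CharP.cast_eq_zero, zero_mul]
    exact AddChar.map_zero_eq_one _

/-! ### The representation -/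

variable (ψ)

/-- the unipotent elements -/
noncomputable def Te (t : F) : (F → ℂ) ≃ₗ[ℂ] (F → ℂ) :=
  LinearEquiv.ofLinearMap (Tl ψ t) (Tl ψ (-t)) (by rw [← Tl_add, add_neg_cancel, Tl_zero])
    (by rw [← Tl_add, neg_add_cancel, Tl_zero])

open Classical in
/-- the torus -/
noncomputable def Ta (a : F) : (F → ℂ) ≃ₗ[ℂ] (F → ℂ) :=
  if h : a = 0 then 1 else
    LinearEquiv.ofLinearMap (Nl a) (Nl a⁻¹) (by rw [← Nl_mul, mul_inv_cancel₀ h, Nl_one])
      (by rw [← Nl_mul, inv_mul_cancel₀ h, Nl_one])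

theorem Ta_apply {a : F} (h : a ≠ 0) (f : F → ℂ) : Ta a f = Nl a f := by
  unfold Ta
  rw [dif_neg h]
  rfl

theorem Ml_four (h2 : ringChar F ≠ 2) (hψ : ψ.IsPrimitive) : Ml ψ ∘ₗ (Nl (-1) ∘ₗ Ml ψ) = LinearMap.id := by
  have h1 : (-1 : F) ≠ 0 := neg_ne_zero.2 one_ne_zero
  rw [← LinearMap.comp_assoc, Ml_Nl h1, LinearMap.comp_assoc, Ml_Ml h2 hψ, ← Nl_mul, inv_mul_cancel₀ h1, Nl_one]

theorem Ml_four' (h2 : ringChar F ≠ 2) (hψ : ψ.IsPrimitive) : (Nl (-1) ∘ₗ Ml ψ) ∘ₗ Ml ψ = LinearMap.id := by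
  rw [LinearMap.comp_assoc, Ml_Ml h2 hψ, ← Nl_mul, neg_mul_neg, one_mul, Nl_one]

/-- the Fourier transform -/
noncomputable def Me (h2 : ringChar F ≠ 2) (hψ : ψ.IsPrimitive) : (F → ℂ) ≃ₗ[ℂ] (F → ℂ) :=
  LinearEquiv.ofLinearMap (Ml ψ) (Nl (-1) ∘ₗ Ml ψ) (Ml_four ψ h2 hψ) (Ml_four' ψ h2 hψ)

variable {ψ}

theorem Te_apply (t : F) (f : F → ℂ) : Te ψ t f = Tl ψ t f := rfl

theorem Me_apply (h2 : ringChar F ≠ 2) (hψ : ψ.IsPrimitive) (f : F → ℂ) : Me ψ h2 hψ f = Ml ψ f := rfl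

/-- **the relations** -/
theorem rel (h2 : ringChar F ≠ 2) (hψ : ψ.IsPrimitive) : Rel (Te ψ) Ta (Me ψ h2 hψ) (-1 : F) where
  c_ne := neg_ne_zero.2 one_ne_zero
  T_add a b := LinearEquiv.ext fun f => by
    rw [LinearEquiv.mul_apply, Te_apply, Te_apply, Te_apply, Tl_add]
    rfl
  ν_mul r s hr hs := LinearEquiv.ext fun f => by
    rw [LinearEquiv.mul_apply, Ta_apply hs, Ta_apply hr, Ta_apply (mul_ne_zero hr hs), Nl_mul]
    rfl
  ν_T r s hr := LinearEquiv.ext fun f => by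
    rw [LinearEquiv.mul_apply, LinearEquiv.mul_apply, Ta_apply hr, Ta_apply hr, Te_apply, Te_apply]
    exact LinearMap.congr_fun (Nl_Tl r s) f
  m_ν r hr := LinearEquiv.ext fun f => by
    rw [LinearEquiv.mul_apply, LinearEquiv.mul_apply, Ta_apply hr, Ta_apply (inv_ne_zero hr), Me_apply, Me_apply]
    exact LinearMap.congr_fun (Ml_Nl hr) f
  m_m := LinearEquiv.ext fun f => by
    rw [LinearEquiv.mul_apply, Ta_apply (neg_ne_zero.2 one_ne_zero), Me_apply, Me_apply]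
    exact LinearMap.congr_fun (Ml_Ml h2 hψ) f
  m_T_m a ha := LinearEquiv.ext fun f => by
    simp only [LinearEquiv.mul_apply]
    rw [Ta_apply (div_ne_zero (neg_ne_zero.2 one_ne_zero) ha), Me_apply, Me_apply, Me_apply, Te_apply, Te_apply, Te_apply]
    exact LinearMap.congr_fun (Ml_Tl_Ml h2 hψ ha) f

/-- **the Weil representation** -/
noncomputable def rho (h2 : ringChar F ≠ 2) (hψ : ψ.IsPrimitive) :
    SpecialLinearGroup (Fin 2) F →* ((F → ℂ) ≃ₗ[ℂ] (F → ℂ)) := (rel h2 hψ).hom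

/-- field automorphisms -/
noncomputable def Fe (σ : F ≃+* F) : (F → ℂ) ≃ₗ[ℂ] (F → ℂ) := LinearEquiv.funCongrLeft ℂ ℂ σ.symm.toEquiv

theorem Fe_apply (σ : F ≃+* F) (f : F → ℂ) (x : F) : Fe σ f x = f (σ.symm x) := rfl

/-- field automorphisms -/
noncomputable def FeHom : (F ≃+* F) →* ((F → ℂ) ≃ₗ[ℂ] (F → ℂ)) where
  toFun := Fe
  map_one' := LinearEquiv.ext fun _ => funext fun _ => rfl
  map_mul' _ _ := LinearEquiv.ext fun _ => funext fun _ => rfl

theorem eta_map (σ : F ≃+* F) (a : F) : eta (σ a) = eta a := by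
  have h : quadraticChar F (σ a) = quadraticChar F a := by
    by_cases ha : a = 0
    · rw [ha, map_zero]
    · have ha' : σ a ≠ 0 := by rwa [Ne, map_eq_zero]
      by_cases hs : IsSquare a
      · rw [(quadraticChar_one_iff_isSquare ha).2 hs, (quadraticChar_one_iff_isSquare ha').2 (hs.map σ)]
      · rw [quadraticChar_neg_one_iff_not_isSquare.2 hs, quadraticChar_neg_one_iff_not_isSquare.2]
        intro h
        apply hs
        have := h.map σ.symm
        rwa [RingEquiv.symm_apply_apply] at this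
  unfold eta
  rw [h]

theorem Fe_Te (hinv : ∀ (σ : F ≃+* F) x, ψ (σ x) = ψ x) (σ : F ≃+* F) (t : F) : Fe σ * Te ψ t = Te ψ (σ t) * Fe σ := by
  refine LinearEquiv.ext fun f => funext fun x => ?_
  rw [LinearEquiv.mul_apply, LinearEquiv.mul_apply, Fe_apply, Te_apply, Te_apply, Tl_apply, Tl_apply, Fe_apply]
  congr 1
  rw [← hinv σ, map_mul, map_pow, RingEquiv.apply_symm_apply]

theorem Fe_Ta (σ : F ≃+* F) {a : F} (ha : a ≠ 0) : Fe σ * Ta a = Ta (σ a) * Fe σ := by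
  refine LinearEquiv.ext fun f => funext fun x => ?_
  rw [LinearEquiv.mul_apply, LinearEquiv.mul_apply, Fe_apply, Ta_apply ha, Ta_apply (by rwa [Ne, map_eq_zero]), Nl_apply,
    Nl_apply, Fe_apply, eta_map, map_mul, RingEquiv.symm_apply_apply]

theorem Fe_Me (h2 : ringChar F ≠ 2) (hψ : ψ.IsPrimitive) (hinv : ∀ (σ : F ≃+* F) x, ψ (σ x) = ψ x) (σ : F ≃+* F) :
    Fe σ * Me ψ h2 hψ = Me ψ h2 hψ * Fe σ := by
  refine LinearEquiv.ext fun f => funext fun x => ?_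
  rw [LinearEquiv.mul_apply, LinearEquiv.mul_apply, Fe_apply, Me_apply, Me_apply, Ml_apply, Ml_apply]
  congr 1
  rw [← Equiv.sum_comp σ.symm.toEquiv fun y => ψ (2 * σ.symm x * y) * f y]
  refine Finset.sum_congr rfl fun y _ => ?_
  rw [Fe_apply]
  show ψ (2 * σ.symm x * σ.symm y) * f (σ.symm y) = _
  have e : σ (2 * σ.symm x * σ.symm y) = 2 * x * y := by
    rw [map_mul, map_mul, RingEquiv.apply_symm_apply, RingEquiv.apply_symm_apply, map_ofNat]
  rw [← hinv σ (2 * σ.symm x * σ.symm y), e]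

/-- the field automorphism on `SL₂(F)` -/
theorem Fe_rho (h2 : ringChar F ≠ 2) (hψ : ψ.IsPrimitive) (hinv : ∀ (σ : F ≃+* F) x, ψ (σ x) = ψ x) (σ : F ≃+* F)
    (g g' : SpecialLinearGroup (Fin 2) F) (hg : ∀ i j, g'.1 i j = σ (g.1 i j)) :
    Fe σ * rho h2 hψ g = rho h2 hψ g' * Fe σ := by
  have hd := det_eq g
  show Fe σ * Phi (Te ψ) Ta (Me ψ h2 hψ) (-1 : F) g = Phi (Te ψ) Ta (Me ψ h2 hψ) (-1 : F) g' * Fe σ
  by_cases h : g.1 1 0 = 0
  · have h' : g'.1 1 0 = 0 := by rw [hg, h, map_zero]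
    have h0 : g.1 0 0 ≠ 0 := by
      intro h0
      rw [h, h0] at hd
      simp at hd
    rw [Phi_of_eq h, Phi_of_eq h', hg, hg, ← mul_assoc, Fe_Ta σ h0, mul_assoc, Fe_Te hinv, map_div₀, mul_assoc]
  · have h' : g'.1 1 0 ≠ 0 := by rwa [hg, Ne, map_eq_zero]
    have h0 : 1 / (-1 * g.1 1 0) ≠ 0 := one_div_ne_zero (mul_ne_zero (neg_ne_zero.2 one_ne_zero) h)
    have e1 : σ (1 / (-1 * g.1 1 0)) = 1 / (-1 * g'.1 1 0) := by
      rw [map_div₀, map_one, map_mul, map_neg, map_one, hg]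
    rw [Phi_of_ne h, Phi_of_ne h']
    calc Fe σ * (Te ψ (g.1 0 0 / g.1 1 0) * Ta (1 / (-1 * g.1 1 0)) * Me ψ h2 hψ * Te ψ (g.1 1 1 / g.1 1 0))
        = (Fe σ * Te ψ (g.1 0 0 / g.1 1 0)) * Ta (1 / (-1 * g.1 1 0)) * Me ψ h2 hψ * Te ψ (g.1 1 1 / g.1 1 0) := by group
      _ = Te ψ (σ (g.1 0 0 / g.1 1 0)) * (Fe σ * Ta (1 / (-1 * g.1 1 0))) * Me ψ h2 hψ * Te ψ (g.1 1 1 / g.1 1 0) := by
          rw [Fe_Te hinv]
          group
      _ = Te ψ (σ (g.1 0 0 / g.1 1 0)) * Ta (σ (1 / (-1 * g.1 1 0))) * (Fe σ * Me ψ h2 hψ) * Te ψ (g.1 1 1 / g.1 1 0) := by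
          rw [Fe_Ta σ h0]
          group
      _ = Te ψ (σ (g.1 0 0 / g.1 1 0)) * Ta (σ (1 / (-1 * g.1 1 0))) * Me ψ h2 hψ * (Fe σ * Te ψ (g.1 1 1 / g.1 1 0)) := by
          rw [Fe_Me h2 hψ hinv]
          group
      _ = _ := by
          rw [Fe_Te hinv, e1, map_div₀, map_div₀, ← hg, ← hg, ← hg]
          group

/-! ### Rationality -/

/-- commuting with a Galois map on the values -/
def Rat (τ : ℂ ≃+* ℂ) (A : (F → ℂ) ≃ₗ[ℂ] (F → ℂ)) : Prop := ∀ f : F → ℂ, A (fun x => τ (f x)) = fun x => τ (A f x)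

theorem Rat.mul {τ : ℂ ≃+* ℂ} {A B : (F → ℂ) ≃ₗ[ℂ] (F → ℂ)} (hA : Rat τ A) (hB : Rat τ B) : Rat τ (A * B) := by
  intro f
  rw [LinearEquiv.mul_apply, hB, hA]
  rfl

theorem Rat.one (τ : ℂ ≃+* ℂ) : Rat τ (1 : (F → ℂ) ≃ₗ[ℂ] (F → ℂ)) := fun _ => rfl

theorem Rat.trace {τ : ℂ ≃+* ℂ} {A : (F → ℂ) ≃ₗ[ℂ] (F → ℂ)} (hA : Rat τ A) :
    τ (LinearMap.trace ℂ (F → ℂ) A) = LinearMap.trace ℂ (F → ℂ) A := by
  have h : LinearMap.trace ℂ (F → ℂ) A = ∑ x : F, A (Pi.single x 1) x := by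
    rw [LinearMap.trace_eq_matrix_trace ℂ (Pi.basisFun ℂ F), Matrix.trace]
    refine Finset.sum_congr rfl fun x _ => ?_
    rw [Matrix.diag_apply, LinearMap.toMatrix_apply, Pi.basisFun_apply, Pi.basisFun_repr]
    rfl
  rw [h, map_sum]
  refine Finset.sum_congr rfl fun x _ => ?_
  have h1 := congrFun (hA (Pi.single x 1)) x
  have h3 : (fun y => τ ((Pi.single x (1 : ℂ) : F → ℂ) y)) = Pi.single x 1 := by
    funext y
    by_cases hy : y = x
    · subst hy
      rw [Pi.single_eq_same, map_one]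
    · rw [Pi.single_eq_of_ne hy, map_zero]
  rw [h3] at h1
  exact h1.symm

theorem rat_eta (τ : ℂ ≃+* ℂ) (a : F) : τ (eta a) = eta a := by
  unfold eta
  exact map_intCast τ _

theorem rat_gs {τ : ℂ ≃+* ℂ} (hτ : ∀ x, τ (ψ x) = ψ x) : τ (gs ψ) = gs ψ := by
  rw [gs_eq, map_sum]
  exact Finset.sum_congr rfl fun c _ => by rw [map_mul, rat_eta, hτ]

theorem rat_Te {τ : ℂ ≃+* ℂ} (hτ : ∀ x, τ (ψ x) = ψ x) (t : F) : Rat τ (Te ψ t) := by
  intro f
  funext x
  rw [Te_apply, Te_apply, Tl_apply, Tl_apply, map_mul τ, hτ]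

theorem rat_Ta (τ : ℂ ≃+* ℂ) (a : F) : Rat τ (Ta a) := by
  intro f
  by_cases ha : a = 0
  · unfold Ta
    rw [dif_pos ha]
    rfl
  · funext x
    rw [Ta_apply ha, Ta_apply ha, Nl_apply, Nl_apply, map_mul, rat_eta]

theorem rat_Me (h2 : ringChar F ≠ 2) (hψ : ψ.IsPrimitive) {τ : ℂ ≃+* ℂ} (hτ : ∀ x, τ (ψ x) = ψ x) :
    Rat τ (Me ψ h2 hψ) := by
  intro f
  funext x
  rw [Me_apply, Me_apply, Ml_apply, Ml_apply, map_mul, map_div₀, map_natCast, rat_gs hτ, map_sum]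
  congr 1
  exact Finset.sum_congr rfl fun y _ => by rw [map_mul τ, hτ]

theorem rat_rho (h2 : ringChar F ≠ 2) (hψ : ψ.IsPrimitive) {τ : ℂ ≃+* ℂ} (hτ : ∀ x, τ (ψ x) = ψ x)
    (g : SpecialLinearGroup (Fin 2) F) : Rat τ (rho h2 hψ g) := by
  show Rat τ (Phi (Te ψ) Ta (Me ψ h2 hψ) (-1 : F) g)
  by_cases h : g.1 1 0 = 0
  · rw [Phi_of_eq h]
    exact (rat_Ta τ _).mul (rat_Te hτ _)
  · rw [Phi_of_ne h]
    exact (((rat_Te hτ _).mul (rat_Ta τ _)).mul (rat_Me h2 hψ hτ)).mul (rat_Te hτ _)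

theorem rat_Fe (τ : ℂ ≃+* ℂ) (σ : F ≃+* F) : Rat τ (Fe σ) := fun _ => rfl

end Cfsg.Agent.H587.CY
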