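import Cfsg.Agent.H587.CY.Weil
import Cfsg.Agent.H199.PslAut
import Cfsg.Agent.Characters.Core

/-!
# S4829: the part of the Weil representation fixed by `-1` (helper587)

* `Vp` : the functions fixed by `-1`; `rp` : the representation of `SL₂(F) ⋊ Aut(F)` on it.
* `irr` : it is irreducible for `SL₂(F)`.
* `trace_te` : the trace of the unipotent elements.
-/

set_option autoImplicit false
set_option linter.unusedSectionVars false

namespace Cfsg.Agent.H587.CY

open Matrix Cfsg.Agent.ONan.SL2Hom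
open Cfsg.Agent.ClassicalGeometry.AutPSL.Auto

universe u

variable {F : Type u} [Field F] [Fintype F] [DecidableEq F]

/-- the functions fixed by `-1` -/
noncomputable def Vp (F : Type u) [Field F] [Fintype F] [DecidableEq F] : Submodule ℂ (F → ℂ) :=
  LinearMap.eqLocus (Ta (-1 : F)).toLinearMap LinearMap.id

theorem mem_Vp {f : F → ℂ} : f ∈ Vp F ↔ Ta (-1 : F) f = f := Iff.rfl

theorem neg_one_ne : (-1 : F) ≠ 0 := neg_ne_zero.2 one_ne_zero

theorem mem_Vp' {f : F → ℂ} : f ∈ Vp F ↔ ∀ x, eta (-1 : F) * f (-x) = f x := by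
  rw [mem_Vp, Ta_apply neg_one_ne, funext_iff]
  refine forall_congr' fun x => ?_
  rw [Nl_apply, neg_one_mul]

theorem Ta_sq : Ta (-1 : F) * Ta (-1 : F) = 1 := by
  refine LinearEquiv.ext fun f => ?_
  rw [LinearEquiv.mul_apply, Ta_apply neg_one_ne, Ta_apply neg_one_ne]
  show (Nl (-1 : F) ∘ₗ Nl (-1 : F)) f = f
  rw [← Nl_mul, neg_mul_neg, one_mul, Nl_one]
  rfl

/-- the operators commuting with `-1` -/
noncomputable def Cen (F : Type u) [Field F] [Fintype F] [DecidableEq F] : Subgroup ((F → ℂ) ≃ₗ[ℂ] (F → ℂ)) :=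
  Subgroup.centralizer {Ta (-1 : F)}

theorem mem_Cen {A : (F → ℂ) ≃ₗ[ℂ] (F → ℂ)} : A ∈ Cen F ↔ A * Ta (-1) = Ta (-1) * A := by
  rw [Cen, Subgroup.mem_centralizer_singleton_iff]

theorem maps_Vp {A : (F → ℂ) ≃ₗ[ℂ] (F → ℂ)} (hA : A ∈ Cen F) {f : F → ℂ} (hf : f ∈ Vp F) : A f ∈ Vp F := by
  rw [mem_Vp] at hf ⊢
  have h := congrArg (fun B : (F → ℂ) ≃ₗ[ℂ] (F → ℂ) => B f) (mem_Cen.1 hA)
  simp only [LinearEquiv.mul_apply] at h
  rw [← h, hf]

/-- restriction to `Vp` -/
noncomputable def resV : Cen F →* Module.End ℂ (Vp F) where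
  toFun A := (A : (F → ℂ) ≃ₗ[ℂ] (F → ℂ)).toLinearMap.restrict fun _ hf => maps_Vp A.2 hf
  map_one' := LinearMap.ext fun _ => Subtype.ext rfl
  map_mul' _ _ := LinearMap.ext fun _ => Subtype.ext rfl

theorem resV_apply (A : Cen F) (f : Vp F) : ((resV A f : Vp F) : F → ℂ) = (A : (F → ℂ) ≃ₗ[ℂ] (F → ℂ)) f := rfl

theorem resV_neg (h : Ta (-1 : F) ∈ Cen F) : resV ⟨Ta (-1 : F), h⟩ = 1 := by
  refine LinearMap.ext fun f => Subtype.ext ?_
  rw [resV_apply]
  exact mem_Vp.1 f.2

/-- the trace on `Vp` -/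
theorem trace_resV (A : Cen F) : LinearMap.trace ℂ (Vp F) (resV A) =
    (LinearMap.trace ℂ (F → ℂ) (A : (F → ℂ) ≃ₗ[ℂ] (F → ℂ)) +
      LinearMap.trace ℂ (F → ℂ) ((A : (F → ℂ) ≃ₗ[ℂ] (F → ℂ)) * Ta (-1) : (F → ℂ) ≃ₗ[ℂ] (F → ℂ))) / 2 := by
  set B : (F → ℂ) →ₗ[ℂ] (F → ℂ) := (2 : ℂ)⁻¹ • (((A : (F → ℂ) ≃ₗ[ℂ] (F → ℂ)) : (F → ℂ) →ₗ[ℂ] (F → ℂ)) +
    (((A : (F → ℂ) ≃ₗ[ℂ] (F → ℂ)) * Ta (-1) : (F → ℂ) ≃ₗ[ℂ] (F → ℂ)) : (F → ℂ) →ₗ[ℂ] (F → ℂ))) with hB
  have hBa : ∀ f, B f = (2 : ℂ)⁻¹ • ((A : (F → ℂ) ≃ₗ[ℂ] (F → ℂ)) f + (A : (F → ℂ) ≃ₗ[ℂ] (F → ℂ)) (Ta (-1) f)) :=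
    fun f => rfl
  have hTT : ∀ f : F → ℂ, Ta (-1 : F) (Ta (-1 : F) f) = f := fun f => by
    rw [← LinearEquiv.mul_apply, Ta_sq]
    rfl
  have h1 : ∀ f, B f ∈ Vp F := by
    intro f
    rw [hBa, ← map_add, ← map_smul]
    apply maps_Vp A.2
    rw [mem_Vp, map_smul, map_add, hTT, add_comm]
  have h2 : ∀ f ∈ Vp F, B f = (A : (F → ℂ) ≃ₗ[ℂ] (F → ℂ)) f := by
    intro f hf
    rw [hBa, mem_Vp.1 hf, ← two_smul ℂ, smul_smul, inv_mul_cancel₀ two_ne_zero, one_smul]
  have h3 : B.restrict (fun x _ => h1 x) = resV A := by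
    refine LinearMap.ext fun f => Subtype.ext ?_
    rw [resV_apply]
    exact h2 f f.2
  rw [← h3, LinearMap.trace_restrict_eq_of_forall_mem (Vp F) B h1 (fun x _ => h1 x), hB, map_smul, map_add, smul_eq_mul]
  ring

/-- the trace in coordinates -/
theorem trace_eq (A : (F → ℂ) ≃ₗ[ℂ] (F → ℂ)) :
    LinearMap.trace ℂ (F → ℂ) A = ∑ x : F, A (Pi.single x 1) x := by
  rw [LinearMap.trace_eq_matrix_trace ℂ (Pi.basisFun ℂ F), Matrix.trace]
  refine Finset.sum_congr rfl fun x _ => ?_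
  rw [Matrix.diag_apply, LinearMap.toMatrix_apply, Pi.basisFun_apply, Pi.basisFun_repr]
  rfl

variable {ψ : AddChar F ℂ}

theorem trace_Te (h2 : ringChar F ≠ 2) (hψ : ψ.IsPrimitive) (t : F) :
    LinearMap.trace ℂ (F → ℂ) (Te ψ t) = if t = 0 then (Fintype.card F : ℂ) else eta t * gs ψ := by
  rw [trace_eq]
  have h1 : ∀ x : F, Te ψ t (Pi.single x 1) x = ψ (t * x ^ 2) := by
    intro x
    rw [Te_apply, Tl_apply, Pi.single_eq_same, mul_one]
  rw [Finset.sum_congr rfl fun x _ => h1 x]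
  split_ifs with h
  · subst h
    simp [AddChar.map_zero_eq_one]
  · exact sum_sq h2 hψ h

theorem trace_Te_neg (h2 : ringChar F ≠ 2) (t : F) :
    LinearMap.trace ℂ (F → ℂ) (Te ψ t * Ta (-1) : (F → ℂ) ≃ₗ[ℂ] (F → ℂ)) = eta (-1 : F) := by
  have h20 : (2 : F) ≠ 0 := Ring.two_ne_zero h2
  rw [trace_eq]
  have h1 : ∀ x : F, (Te ψ t * Ta (-1) : (F → ℂ) ≃ₗ[ℂ] (F → ℂ)) (Pi.single x 1) x = if x = 0 then eta (-1 : F) else 0 := by
    intro x
    rw [LinearEquiv.mul_apply, Te_apply, Tl_apply, Ta_apply neg_one_ne, Nl_apply, neg_one_mul]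
    split_ifs with h
    · subst h
      rw [neg_zero, Pi.single_eq_same, mul_one]
      simp [AddChar.map_zero_eq_one]
    · rw [Pi.single_eq_of_ne, mul_zero, mul_zero]
      intro h3
      apply h
      have h4 : 2 * x = 0 := by linear_combination -h3
      exact (mul_eq_zero.1 h4).resolve_left h20
  rw [Finset.sum_congr rfl fun x _ => h1 x, Finset.sum_ite_eq' Finset.univ (0 : F), if_pos (Finset.mem_univ _)]

/-! ### Irreducibility -/

/-- the function of weight `y` -/
noncomputable def ev (y : F) : F → ℂ := Pi.single y 1 + eta (-1 : F) • Pi.single (-y) 1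

theorem ev_apply (y x : F) : ev y x = (if x = y then 1 else 0) + eta (-1 : F) * (if x = -y then 1 else 0) := by
  unfold ev
  simp only [Pi.add_apply, Pi.smul_apply, smul_eq_mul, Pi.single_apply]

theorem sum_ev {f : F → ℂ} (hf : f ∈ Vp F) : ∑ y : F, f y • ev y = (2 : ℂ) • f := by
  funext x
  rw [Finset.sum_apply]
  have h1 : ∀ y, (f y • ev y) x = (if x = y then f y else 0) + (if y = -x then eta (-1 : F) * f y else 0) := by
    intro y
    rw [Pi.smul_apply, ev_apply, smul_eq_mul, mul_add]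
    have e : (x = -y) ↔ (y = -x) := by
      rw [eq_neg_iff_add_eq_zero, eq_neg_iff_add_eq_zero, add_comm]
    simp only [e]
    split_ifs <;> ring
  rw [Finset.sum_congr rfl fun y _ => h1 y, Finset.sum_add_distrib, Finset.sum_ite_eq Finset.univ x,
    if_pos (Finset.mem_univ _), Finset.sum_ite_eq' Finset.univ (-x), if_pos (Finset.mem_univ _),
    (mem_Vp'.1 hf) x, Pi.smul_apply, smul_eq_mul]
  ring

theorem sq_eq_iff {x y : F} : x ^ 2 = y ^ 2 ↔ x = y ∨ x = -y := sq_eq_sq_iff_eq_or_eq_neg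

/-- the weight projection -/
theorem proj_mem (h2 : ringChar F ≠ 2) (hψ : ψ.IsPrimitive) {W : Submodule ℂ (F → ℂ)} (hWV : W ≤ Vp F)
    (hT : ∀ t, ∀ f ∈ W, Te ψ t f ∈ W) {f : F → ℂ} (hf : f ∈ W) {y : F} (hy : f y ≠ 0) : ev y ∈ W := by
  have h20 : (2 : F) ≠ 0 := Ring.two_ne_zero h2
  have hq : (Fintype.card F : ℂ) ≠ 0 := Nat.cast_ne_zero.2 Fintype.card_ne_zero
  have h1 : ∑ t : F, ψ (-(t * y ^ 2)) • Te ψ t f ∈ W := W.sum_mem fun t _ => W.smul_mem _ (hT t f hf)
  have h3 : ∑ t : F, ψ (-(t * y ^ 2)) • Te ψ t f = fun x => if x ^ 2 = y ^ 2 then (Fintype.card F : ℂ) * f x else 0 := by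
    funext x
    rw [Finset.sum_apply]
    have h4 : ∀ t : F, (ψ (-(t * y ^ 2)) • Te ψ t f) x = ψ ((x ^ 2 - y ^ 2) * t) * f x := by
      intro t
      rw [Pi.smul_apply, Te_apply, Tl_apply, smul_eq_mul, ← mul_assoc, ← AddChar.map_add_eq_mul]
      congr 2
      ring
    rw [Finset.sum_congr rfl fun t _ => h4 t, ← Finset.sum_mul, sum_psi hψ]
    simp only [sub_eq_zero]
    split_ifs
    · rfl
    · rw [zero_mul]
  rw [h3] at h1
  have h5 : (fun x => if x ^ 2 = y ^ 2 then (Fintype.card F : ℂ) * f x else 0) =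
      (if y = 0 then (Fintype.card F : ℂ) * f y / 2 else Fintype.card F * f y) • ev y := by
    have hfy := mem_Vp'.1 (hWV hf)
    funext x
    rw [Pi.smul_apply, ev_apply, smul_eq_mul]
    by_cases h0 : y = 0
    · subst h0
      have he : eta (-1 : F) = 1 := by
        have h6 := hfy 0
        rw [neg_zero] at h6
        exact mul_right_cancel₀ hy (h6.trans (one_mul _).symm)
      rw [if_pos rfl, he, neg_zero]
      by_cases hx : x = 0
      · subst hx
        simp only [if_true]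
        ring
      · rw [if_neg hx, if_neg]
        · ring
        · intro h6
          apply hx
          rw [zero_pow two_ne_zero] at h6
          exact pow_eq_zero_iff two_ne_zero |>.1 h6
    · rw [if_neg h0]
      have hne : y ≠ -y := by
        intro h6
        apply h0
        have h7 : 2 * y = 0 := by linear_combination h6
        exact (mul_eq_zero.1 h7).resolve_left h20
      by_cases hx : x = y
      · subst hx
        rw [if_pos rfl, if_pos rfl, if_neg hne]
        ring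
      · by_cases hx' : x = -y
        · subst hx'
          rw [if_pos (neg_sq y), if_neg hx, if_pos rfl]
          have h6 := hfy (-y)
          rw [neg_neg] at h6
          rw [← h6]
          ring
        · rw [if_neg, if_neg hx, if_neg hx']
          · ring
          · intro h6
            rcases sq_eq_iff.1 h6 with h7 | h7
            · exact hx h7
            · exact hx' h7
  rw [h5] at h1
  have h6 : (if y = 0 then (Fintype.card F : ℂ) * f y / 2 else Fintype.card F * f y) ≠ 0 := by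
    split_ifs
    · exact div_ne_zero (mul_ne_zero hq hy) two_ne_zero
    · exact mul_ne_zero hq hy
  exact (Submodule.smul_mem_iff W h6).1 h1

/-- **irreducibility of `Vp`** -/
theorem irr_Vp (h2 : ringChar F ≠ 2) (hψ : ψ.IsPrimitive) {W : Submodule ℂ (F → ℂ)} (hWV : W ≤ Vp F)
    (hW : W ≠ ⊥) (hT : ∀ t, ∀ f ∈ W, Te ψ t f ∈ W) (hN : ∀ a : F, a ≠ 0 → ∀ f ∈ W, Ta a f ∈ W)
    (hM : ∀ f ∈ W, Me ψ h2 hψ f ∈ W) : W = Vp F := by
  have hq : (Fintype.card F : ℂ) ≠ 0 := Nat.cast_ne_zero.2 Fintype.card_ne_zero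
  have hg := gs_ne h2 hψ
  obtain ⟨f, hf, hf0⟩ := Submodule.exists_mem_ne_zero_of_ne_bot hW
  -- a function with a nonzero value outside 0
  obtain ⟨f1, hf1, y, hy, hy1⟩ : ∃ f1 ∈ W, ∃ y : F, y ≠ 0 ∧ f1 y ≠ 0 := by
    by_contra hcon
    push Not at hcon
    have h0 : f 0 ≠ 0 := by
      intro h0
      apply hf0
      funext x
      by_cases hx : x = 0
      · rw [hx, h0]
        rfl
      · exact hcon f hf x hx
    have h1 := hcon _ (hM f hf) 1 one_ne_zero
    rw [Me_apply, Ml_apply, Finset.sum_eq_single (0 : F)] at h1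
    · rw [mul_zero, AddChar.map_zero_eq_one, one_mul] at h1
      exact mul_ne_zero (div_ne_zero hg hq) h0 h1
    · intro y _ hy
      rw [hcon f hf y hy, mul_zero]
    · intro h
      exact absurd (Finset.mem_univ _) h
  have hev : ∀ x : F, x ≠ 0 → ev x ∈ W := by
    intro x hx
    have h1 := proj_mem h2 hψ hWV hT hf1 hy1
    have h3 := hN (y / x) (div_ne_zero hy hx) _ h1
    have h4 : Ta (y / x) (ev y) = eta (y / x) • ev x := by
      rw [Ta_apply (div_ne_zero hy hx)]
      funext z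
      rw [Nl_apply, Pi.smul_apply, ev_apply, ev_apply, smul_eq_mul]
      have e1 : y / x * z = y ↔ z = x := by
        constructor
        · intro h
          field_simp at h
          exact h
        · rintro rfl
          field_simp
      have e2 : y / x * z = -y ↔ z = -x := by
        constructor
        · intro h
          field_simp at h
          linear_combination h
        · rintro rfl
          field_simp
      simp only [e1, e2]
    rw [h4] at h3
    exact (Submodule.smul_mem_iff W (eta_ne (div_ne_zero hy hx))).1 h3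
  have hev0 : ev (0 : F) ∈ W := by
    rcases eta_cases (neg_one_ne (F := F)) with he | he
    · have h1 := hM _ (hev 1 one_ne_zero)
      have h3 : Me ψ h2 hψ (ev (1 : F)) 0 ≠ 0 := by
        rw [Me_apply, Ml_apply]
        have h4 : ∑ y : F, ψ (2 * 0 * y) * ev (1 : F) y = 2 := by
          have h5 : ∀ y : F, ψ (2 * 0 * y) * ev (1 : F) y = (if y = 1 then (1 : ℂ) else 0) + (if y = -1 then 1 else 0) := by
            intro y
            rw [mul_zero, zero_mul, AddChar.map_zero_eq_one, one_mul, ev_apply, he, one_mul]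
          rw [Finset.sum_congr rfl fun y _ => h5 y, Finset.sum_add_distrib, Finset.sum_ite_eq' Finset.univ (1 : F),
            if_pos (Finset.mem_univ _), Finset.sum_ite_eq' Finset.univ (-1 : F), if_pos (Finset.mem_univ _)]
          norm_num
        rw [h4]
        exact mul_ne_zero (div_ne_zero hg hq) two_ne_zero
      exact proj_mem h2 hψ hWV hT h1 h3
    · have h1 : ev (0 : F) = 0 := by
        funext x
        rw [ev_apply, he, neg_zero, Pi.zero_apply]
        split_ifs <;> ring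
      rw [h1]
      exact W.zero_mem
  refine le_antisymm hWV fun g hgV => ?_
  have h1 : (2 : ℂ) • g ∈ W := by
    rw [← sum_ev hgV]
    refine W.sum_mem fun y _ => W.smul_mem _ ?_
    by_cases hy0 : y = 0
    · rw [hy0]
      exact hev0
    · exact hev y hy0
  exact (Submodule.smul_mem_iff W two_ne_zero).1 h1

end Cfsg.Agent.H587.CY
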