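import Cfsg.Agent.H587.CY.Theta

/-!
# S4829: the Weil character of `Aut(PSL₂(q))`, `q` odd (helper587)

* `exists_wit` : a character of `Aut(PSL₂(F))` of degree `q ± 1`, fixed by the Galois maps fixing the `p`-th roots of
  unity, which restricts to `PSL₂(F)` as the sum of two different nontrivial irreducible characters.
-/

set_option autoImplicit false
set_option linter.unusedSectionVars false

namespace Cfsg.Agent.H587.CY

open Matrix Cfsg.Agent.ONan.SL2Hom Cfsg
open Cfsg.Agent.ClassicalGeometry.AutPSL.Root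
open Cfsg.Agent.ClassicalGeometry.AutPSL.Auto
open Cfsg.Agent.ClassicalGeometry.AutPSL.Main
open Cfsg.Agent.H199.PslAut
open Cfsg.Agent.Characters

universe u

section

variable {F : Type u} [Field F]

/-- an invertible matrix whose determinant is a square acts as an inner automorphism (helper432's text) -/
theorem psi_conj_of_sq {g : GL (Fin 2) F} {c : Fˣ} (h : Matrix.GeneralLinearGroup.det g = c ^ 2) :
    ∃ s : SpecialLinearGroup (Fin 2) F, Psi 2 F g = MulAut.conj (pr s) := by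
  have hd : ((g : Matrix (Fin 2) (Fin 2) F)).det = (c : F) ^ 2 := by
    have := congrArg Units.val h
    simpa using this
  have hc : (c : F) ≠ 0 := c.ne_zero
  let s : SpecialLinearGroup (Fin 2) F := ⟨((c : F)⁻¹) • (g : Matrix (Fin 2) (Fin 2) F), by
    rw [Matrix.det_smul, hd, Fintype.card_fin, ← mul_pow, inv_mul_cancel₀ hc, one_pow]⟩
  refine ⟨s, ?_⟩
  have hg : g = scal 2 F c * (s : GL (Fin 2) F) := by
    apply Units.ext
    rw [Units.val_mul, coe_scal]
    change (g : Matrix (Fin 2) (Fin 2) F) = (scalar (Fin 2) (c : F)) * (((c : F)⁻¹) • (g : Matrix (Fin 2) (Fin 2) F))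
    rw [Matrix.mul_smul, ← Matrix.smul_mul]
    have : ((c : F)⁻¹) • (scalar (Fin 2) (c : F)) = (1 : Matrix (Fin 2) (Fin 2) F) := by
      rw [Matrix.scalar_apply, Matrix.smul_eq_diagonal_mul, Matrix.diagonal_mul_diagonal]
      rw [← Matrix.diagonal_one]
      congr 1
      funext i
      exact inv_mul_cancel₀ hc
    rw [this, one_mul]
  rw [hg, map_mul, Psi_scal, one_mul, Psi_coe]

/-- the product of two nonsquares is a square -/
theorem isSquare_mul [Fintype F] (h2 : ringChar F ≠ 2) {a b : Fˣ} (ha : ¬ IsSquare a) (hb : ¬ IsSquare b) :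
    IsSquare (a * b) := by
  rw [FiniteField.unit_isSquare_iff h2] at ha hb ⊢
  have key : ∀ x : Fˣ, ¬ x ^ (Fintype.card F / 2) = 1 → x ^ (Fintype.card F / 2) = -1 := by
    intro x hx
    rcases FiniteField.pow_dichotomy h2 (a := (x : F)) x.ne_zero with h | h
    · exact absurd (Units.ext (by rw [Units.val_pow_eq_pow_val, h, Units.val_one])) hx
    · apply Units.ext
      rw [Units.val_pow_eq_pow_val, h, Units.val_neg, Units.val_one]
  rw [mul_pow, key a ha, key b hb]
  simp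

/-- the diagonal matrix -/
noncomputable def dM (v : Fˣ) : GL (Fin 2) F :=
  Matrix.GeneralLinearGroup.mkOfDetNeZero !![(v : F), 0; 0, 1] (by
    rw [Matrix.det_fin_two_of]
    simp)

theorem dM_val (v : Fˣ) : ((dM v : GL (Fin 2) F) : Matrix (Fin 2) (Fin 2) F) = !![(v : F), 0; 0, 1] := rfl

theorem det_dM (v : Fˣ) : Matrix.GeneralLinearGroup.det (dM v) = v := by
  apply Units.ext
  show (!![(v : F), 0; 0, 1] : Matrix (Fin 2) (Fin 2) F).det = v
  rw [Matrix.det_fin_two_of]
  ring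

/-- the diagonal automorphism on the unipotent elements -/
theorem cj_dM (v : Fˣ) (t : F) : cj (dM v) (tM t) = tM (v * t) := by
  have h : dM v * (Matrix.SpecialLinearGroup.toGL (tM t)) = (Matrix.SpecialLinearGroup.toGL (tM (v * t))) * dM v := by
    apply Units.ext
    show (!![(v : F), 0; 0, 1] : Matrix (Fin 2) (Fin 2) F) * !![1, t; 0, 1] = !![1, v * t; 0, 1] * !![(v : F), 0; 0, 1]
    rw [Matrix.mul_fin_two, Matrix.mul_fin_two]
    simp
  have h1 : dM v * (Matrix.SpecialLinearGroup.toGL (tM t)) * (dM v)⁻¹ = Matrix.SpecialLinearGroup.toGL (tM (v * t)) := by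
    rw [h, mul_inv_cancel_right]
  apply Subtype.ext
  rw [coe_cj]
  exact congrArg Units.val h1

end

variable {F : Type u} [Field F] [Fintype F] [DecidableEq F]

theorem mem_range_of_sq {g : GL (Fin 2) F} (h : IsSquare (Matrix.GeneralLinearGroup.det g)) (σ : F ≃+* F) :
    Psi 2 F g * phi 2 F σ ∈ (pt F).range := by
  obtain ⟨c, hc⟩ := h
  obtain ⟨s, hs⟩ := psi_conj_of_sq (g := g) (c := c) (by rw [hc, pow_two])
  refine ⟨⟨s, σ⟩, ?_⟩
  rw [pt_apply, hs]

theorem not_mem_range {v : Fˣ} (hv : ¬ IsSquare v) : Psi 2 F (dM v) ∉ (pt F).range := by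
  rintro ⟨x, hx⟩
  rw [pt_apply, ← Psi_coe] at hx
  have h1 : Psi 2 F ((dM v)⁻¹ * (x.left : GL (Fin 2) F)) * phi 2 F x.right = phi 2 F 1 := by
    rw [map_mul, mul_assoc, hx, map_inv, inv_mul_cancel, map_one]
  obtain ⟨⟨w, hw⟩, -⟩ := Psi_phi_eq (n := 2) le_rfl h1
  apply hv
  have h3 := congrArg Matrix.GeneralLinearGroup.det hw
  rw [map_mul, map_inv, det_dM] at h3
  have h4 : Matrix.GeneralLinearGroup.det (x.left : GL (Fin 2) F) = 1 := by
    apply Units.ext
    exact x.left.2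
  have h5 : Matrix.GeneralLinearGroup.det (scal 2 F w) = w ^ 2 := by
    apply Units.ext
    show ((scal 2 F w : GL (Fin 2) F) : Matrix (Fin 2) (Fin 2) F).det = _
    rw [coe_scal, Matrix.scalar_apply, Matrix.det_diagonal]
    simp
  rw [h4, h5, mul_one] at h3
  refine ⟨w⁻¹, ?_⟩
  rw [← mul_inv, ← pow_two, ← h3, inv_inv]

theorem cover (h2 : ringChar F ≠ 2) {v : Fˣ} (hv : ¬ IsSquare v) (x : MulAut (PS F)) (hx : x ∉ (pt F).range) :
    (Psi 2 F (dM v))⁻¹ * x ∈ (pt F).range := by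
  rcases exists_form (n := 2) le_rfl x with ⟨g, σ, rfl⟩ | ⟨h, -⟩
  · rw [← mul_assoc, ← map_inv, ← map_mul]
    apply mem_range_of_sq
    rw [map_mul, map_inv, det_dM]
    have hg : ¬ IsSquare (Matrix.GeneralLinearGroup.det g) := fun h => hx (mem_range_of_sq h σ)
    refine isSquare_mul h2 ?_ hg
    intro h
    exact hv (isSquare_inv.1 h)
  · omega

/-- **the Weil character of `Aut(PSL₂(F))`** -/
theorem exists_wit (p : ℕ) [Fact p.Prime] [CharP F p] (hp : p ≠ 2) : ∃ Ψ : MulAut (PS F) → ℂ,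
    IsCharacter (MulAut (PS F)) Ψ ∧ (∀ τ : ℂ ≃+* ℂ, (∀ z : ℂ, z ^ p = 1 → τ z = z) → ∀ a, τ (Ψ a) = Ψ a) ∧
    (∃ n : ℕ, Ψ 1 = n ∧ ¬ p ∣ n) ∧ ∃ θ₁ θ₂ : PS F → ℂ, IsIrrCharacter (PS F) θ₁ ∧ IsIrrCharacter (PS F) θ₂ ∧ θ₁ ≠ θ₂ ∧
      (∀ s, Ψ (MulAut.conj s) = θ₁ s + θ₂ s) ∧ θ₁ ≠ (fun _ => 1) ∧ θ₂ ≠ (fun _ => 1) ∧
      (∀ τ : ℂ ≃+* ℂ, (∀ z : ℂ, z ^ p = 1 → τ z = z) → ∀ s, τ (θ₁ s) = θ₁ s) ∧
      (∀ τ : ℂ ≃+* ℂ, (∀ z : ℂ, z ^ p = 1 → τ z = z) → ∀ s, τ (θ₂ s) = θ₂ s) := by
  classical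
  have hpp : p.Prime := Fact.out
  have hrc : ringChar F = p := ringChar.eq F p
  have h2 : ringChar F ≠ 2 := by rwa [hrc]
  obtain ⟨ψ, hψ, hinv, hψp⟩ := exists_psi (F := F) p
  obtain ⟨R, hR⟩ := exists_desc h2 hψ hinv
  obtain ⟨v0, hv0⟩ := FiniteField.exists_nonsquare h2
  have hv00 : v0 ≠ 0 := by
    rintro rfl
    exact hv0 IsSquare.zero
  let v : Fˣ := Units.mk0 v0 hv00
  have hv : ¬ IsSquare v := by
    rintro ⟨w, hw⟩
    exact hv0 ⟨w, congrArg Units.val hw⟩
  let d : MulAut (PS F) := Psi 2 F (dM v)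
  have hd : d ∉ (pt F).range := not_mem_range hv
  have hcov : ∀ x, x ∉ (pt F).range → d⁻¹ * x ∈ (pt F).range := cover h2 hv
  have : Fintype (MulAut (PS F)) := Fintype.ofFinite _
  have hRc : IsCharacter (pt F).range R.character := Core.isCharacter_of_rep R
  have hcl := Core.isCharacter_isClassFunction hRc
  have hfix : ∀ τ : ℂ ≃+* ℂ, (∀ z : ℂ, z ^ p = 1 → τ z = z) → ∀ y, τ (R.character y) = R.character y :=
    fun τ hτ y => char_rat h2 hψ hinv hR (fun x => hτ _ (hψp x)) y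
  have hirr := irr_theta h2 hψ hinv hR
  have hconj : ∀ s : PS F, d⁻¹ * MulAut.conj s * d = MulAut.conj (d⁻¹ s) := by
    intro s
    refine MulEquiv.ext fun x => ?_
    rw [MulAut.mul_apply, MulAut.mul_apply, MulAut.conj_apply, MulAut.conj_apply, map_mul, map_mul, map_inv,
      MulAut.inv_apply_self]
  have hsum : ∀ s : PS F, indFun (pt F).range R.character (MulAut.conj s) =
      R.character (io F s) + R.character (io F (d⁻¹ s)) := by
    intro s
    have hy' : d⁻¹ * MulAut.conj s * d ∈ (pt F).range := by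
      rw [hconj]
      exact conj_mem _
    rw [ind_two (pt F).range hcl hd hcov (conj_mem s) hy']
    congr 2
    exact Subtype.ext (hconj s)
  have hg := gs_ne h2 hψ
  -- the values on the unipotent elements
  have hdt : ∀ t : F, d⁻¹ (pr (tM (v0 * t))) = pr (tM t) := by
    intro t
    have e : pr (tM (v0 * t)) = d (pr (tM t)) := by
      show _ = Psi 2 F (dM v) (pr (tM t))
      rw [Psi_pr, cj_dM]
      rfl
    rw [e, MulAut.inv_apply_self]
  have hv1 : eta v0 = -1 := by
    unfold eta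
    rw [quadraticChar_neg_one_iff_not_isSquare.2 hv0]
    norm_num
  have hne : ∀ t t' : F, t ≠ 0 → t' ≠ 0 → eta t = -eta t' → R.character (io F (pr (tM t))) ≠ R.character (io F (pr (tM t'))) := by
    intro t t' ht ht' he h
    rw [theta_te h2 hψ hinv hR, theta_te h2 hψ hinv hR, if_neg ht, if_neg ht', he] at h
    have h3 : eta t' * gs ψ = 0 := by linear_combination (-1 : ℂ) * h
    exact mul_ne_zero (eta_ne ht') hg h3
  refine ⟨indFun (pt F).range R.character, Brauer.isCharacter_indFun _ hRc, ?_, ?_, fun s => R.character (io F s),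
    fun s => R.character (io F (d⁻¹ s)), hirr, ?_, ?_, hsum, ?_, ?_, fun τ hτ s => hfix τ hτ _, fun τ hτ s => hfix τ hτ _⟩
  · intro τ hτ a
    rw [Core.indFun_apply, map_mul, map_inv₀, map_natCast, map_sum]
    congr 1
    refine Finset.sum_congr rfl fun x _ => ?_
    by_cases hm : x⁻¹ * a * x ∈ (pt F).range
    · rw [Core.extendByZero_of_mem _ _ hm, hfix τ hτ]
    · rw [Core.extendByZero_of_notMem _ _ hm, map_zero]
  · have h1 := hsum 1
    rw [map_one MulAut.conj, map_one (d⁻¹), map_one (io F), theta_one h2 hψ hinv hR] at h1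
    have hpq : p ∣ Fintype.card F := by
      have := (CharP.cast_eq_zero_iff F p (Fintype.card F)).1 (FiniteField.cast_card_eq_zero F)
      exact this
    have hq1 : 1 ≤ Fintype.card F := Fintype.card_pos
    rcases eta_cases (neg_one_ne (F := F)) with he | he
    · refine ⟨Fintype.card F + 1, ?_, ?_⟩
      · rw [h1, he]
        push_cast
        ring
      · intro h
        exact hpp.one_lt.ne' (Nat.dvd_one.1 ((Nat.dvd_add_right hpq).1 h))
    · refine ⟨Fintype.card F - 1, ?_, ?_⟩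
      · rw [h1, he, Nat.cast_sub hq1]
        push_cast
        ring
      · intro h
        have h3 := (Nat.dvd_sub hpq h)
        rw [Nat.sub_sub_self hq1] at h3
        exact hpp.one_lt.ne' (Nat.dvd_one.1 h3)
  · have h1 := Core.isIrr_comp (f := (d⁻¹ : MulAut (PS F)).toMonoidHom) (d⁻¹ : MulAut (PS F)).surjective hirr
    exact h1
  · intro h
    have h1 := congrFun h (pr (tM (v0 * 1)))
    rw [hdt, mul_one] at h1
    exact hne v0 1 hv00 one_ne_zero (by rw [hv1, eta_one]) h1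
  · intro h
    have h1 := congrFun h (pr (tM v0))
    have h3 := congrFun h (pr (tM 1))
    exact hne v0 1 hv00 one_ne_zero (by rw [hv1, eta_one]) (h1.trans h3.symm)
  · intro h
    have h1 := congrFun h (pr (tM (v0 * v0)))
    have h3 := congrFun h (pr (tM (v0 * 1)))
    rw [hdt] at h1 h3
    exact hne v0 1 hv00 one_ne_zero (by rw [hv1, eta_one]) (h1.trans h3.symm)

end Cfsg.Agent.H587.CY
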